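import Groth.Agent.GaFrob87.Partition
import Mathlib.Algebra.CharP.Lemmas
import Mathlib.Algebra.CharP.Basic
import Mathlib.Algebra.CharP.Invertible
import Mathlib.Algebra.Polynomial.Derivative
import Mathlib.Algebra.Polynomial.Expand
import Mathlib.FieldTheory.Perfect
import Mathlib.RingTheory.Polynomial.Nilpotent
import Mathlib.RingTheory.Nilpotent.Lemmas
import Mathlib.RingTheory.Ideal.Quotient.Nilpotent

/-!
# `p`-torsion unit cocycles on the affine line over a ring with surjective Frobenius
-/

set_option autoImplicit false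
set_option linter.unusedSectionVars false

universe u

open Polynomial

namespace Groth.Agent.GaFrob87

variable {R : Type u} [CommRing R]

/-- The iterated logarithmic derivatives. -/
noncomputable def logD (g : R[X]) : ℕ → R[X]
  | 0 => 1
  | n + 1 => derivative (logD g n) + g * logD g n

theorem iterate_derivative_eq {H g : R[X]} (h : derivative H = g * H) :
    ∀ n, derivative^[n] H = logD g n * H
  | 0 => by simp [logD]
  | n + 1 => by
    rw [Function.iterate_succ_apply', iterate_derivative_eq h n, derivative_mul, h, logD]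
    ring

theorem natDegree_logD_le (g : R[X]) : ∀ n, (logD g n).natDegree ≤ n * g.natDegree
  | 0 => by simp [logD]
  | n + 1 => by
    refine (natDegree_add_le _ _).trans (max_le ?_ ?_)
    · refine (natDegree_derivative_le _).trans ((Nat.sub_le _ _).trans ((natDegree_logD_le g n).trans ?_))
      exact Nat.mul_le_mul_right _ (Nat.le_succ n)
    · refine natDegree_mul_le.trans ?_
      rw [Nat.succ_mul]
      have := natDegree_logD_le g n
      omega

theorem coeff_logD (g : R[X]) : ∀ n, (logD g n).coeff (n * g.natDegree) = g.leadingCoeff ^ n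
  | 0 => by simp [logD]
  | n + 1 => by
    have h1 : (derivative (logD g n)).coeff ((n + 1) * g.natDegree) = 0 := by
      refine (coeff_derivative _ _).trans ?_
      rw [coeff_eq_zero_of_natDegree_lt (lt_of_le_of_lt (natDegree_logD_le g n)
        (Nat.lt_succ_of_le (Nat.mul_le_mul_right _ (Nat.le_succ n)))), zero_mul]
    rw [logD, coeff_add, h1, zero_add, Nat.succ_mul, Nat.add_comm,
      coeff_mul_add_eq_of_natDegree_le le_rfl (natDegree_logD_le g n), coeff_logD g n, pow_succ']
    rfl

theorem eq_zero_of_logD [IsReduced R] {g : R[X]} {n : ℕ} (hn : n ≠ 0) (h : logD g n = 0) : g = 0 := by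
  have h1 := coeff_logD g n
  rw [h, coeff_zero] at h1
  exact leadingCoeff_eq_zero.1 ((pow_eq_zero_iff hn).1 h1.symm)

theorem span_pow_range {ι : Type} {B : Type u} [CommRing B] (f : ι → B) (hf : Ideal.span (Set.range f) = ⊤) (n : ι → ℕ) :
    ∃ c : ι →₀ B, (c.sum fun i a => a * f i ^ n i) = 1 := by
  have h := Ideal.span_range_pow_eq_top (Set.range f) hf (fun x => n x.2.choose)
  rw [Ideal.eq_top_iff_one] at h
  refine Finsupp.mem_ideal_span_range_iff_exists_finsupp.1 (Ideal.span_le.2 ?_ h)
  rintro _ ⟨x, rfl⟩
  refine Ideal.subset_span ⟨x.2.choose, ?_⟩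
  show f _ ^ _ = x.1 ^ _
  rw [x.2.choose_spec]

theorem map_logD {S : Type u} [CommRing S] (φ : R →+* S) (g : R[X]) : ∀ n, (logD g n).map φ = logD (g.map φ) n
  | 0 => by simp [logD]
  | n + 1 => by rw [logD, logD, Polynomial.map_add, Polynomial.map_mul, ← derivative_map, map_logD φ g n]

theorem iterate_derivative_charP (p : ℕ) [Fact p.Prime] [CharP R p] (H : R[X]) : derivative^[p] H = 0 := by
  ext i
  rw [coeff_iterate_derivative, coeff_zero, nsmul_eq_mul]
  have h : p ∣ (i + p).descFactorial p :=
    (Nat.dvd_factorial (Fact.out (p := p.Prime)).pos le_rfl).trans (Nat.factorial_dvd_descFactorial _ _)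
  rw [(CharP.cast_eq_zero_iff R p _).2 h, zero_mul]

theorem isNilpotent_logD (p : ℕ) [Fact p.Prime] {g : R[X]} (h : logD g p = 0) : IsNilpotent g := by
  rw [Polynomial.isNilpotent_iff]
  intro i
  have : IsReduced (R ⧸ nilradical R) := (Ideal.isRadical_iff_quotient_reduced _).1 (Ideal.radical_isRadical ⊥)
  have h2 := eq_zero_of_logD (R := R ⧸ nilradical R) (Fact.out (p := p.Prime)).ne_zero
    (g := g.map (Ideal.Quotient.mk _)) (by rw [← map_logD, h, Polynomial.map_zero])
  have h3 := congrArg (fun q => q.coeff i) h2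
  simp only [coeff_map, coeff_zero] at h3
  exact mem_nilradical.1 (Ideal.Quotient.eq_zero_iff_mem.1 h3)

theorem isNilpotent_sub_expand (p : ℕ) [hp : Fact p.Prime] [CharP R p] {H : R[X]} (h : IsNilpotent (derivative H)) :
    IsNilpotent (H - expand R p (contract p H)) := by
  rw [Polynomial.isNilpotent_iff]
  intro n
  rw [coeff_sub, coeff_expand hp.out.pos]
  split_ifs with hd
  · rw [coeff_contract hp.out.ne_zero, Nat.div_mul_cancel hd, sub_self]
    exact IsNilpotent.zero
  · rw [sub_zero]
    obtain ⟨m, rfl⟩ : ∃ m, n = m + 1 := Nat.exists_eq_succ_of_ne_zero (fun h0 => hd (h0 ▸ dvd_zero p))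
    have h1 := Polynomial.isNilpotent_iff.1 h m
    rw [coeff_derivative] at h1
    have hu : IsUnit ((m : R) + 1) := by
      rw [← Nat.cast_succ]
      exact (CharP.isUnit_natCast_iff hp.out).2 hd
    obtain ⟨v, hv⟩ := hu.exists_right_inv
    have h2 := Commute.isNilpotent_mul_right (x := H.coeff (m + 1) * ((m : R) + 1)) (y := v) (Commute.all _ _) h1
    rwa [mul_assoc, hv, mul_one] at h2

section Main

variable (p : ℕ) [Fact p.Prime] [CharP R p]

theorem sub_pow_prime {C : Type u} [CommRing C] (hC : (p : C) = 0) (x y : C) : (x - y) ^ p = x ^ p - y ^ p := by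
  obtain ⟨r, hr⟩ := exists_add_pow_prime_eq (Fact.out (p := p.Prime)) (x - y) y
  rw [sub_add_cancel, hC, zero_mul, zero_mul, zero_mul, add_zero] at hr
  linear_combination -hr

theorem derivative_pow_prime (x : R[X]) : derivative (x ^ p) = 0 := by
  rw [derivative_pow, CharP.cast_eq_zero, C_0, zero_mul, zero_mul]

theorem derivative_mul_pow_prime (x y : R[X]) : derivative (x * y ^ p) = derivative x * y ^ p := by
  rw [derivative_mul, derivative_pow_prime, mul_zero, add_zero]

variable {ι : Type} [Fintype ι] (f : ι → R[X])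

theorem exists_approx (hF : Function.Surjective (frobenius R p)) (hf : Ideal.span (Set.range f) = ⊤)
    (a : ∀ k i, (Localization.Away (f k * f i))ˣ) (u : ∀ i, (Localization.Away (f i))ˣ)
    (hu : ∀ k i, (a k i : Localization.Away (f k * f i)) ^ p * toR (f k) (f i) (u i : Localization.Away (f i)) =
      toL (f k) (f i) (u k : Localization.Away (f k))) :
    ∃ w : ∀ i, (Localization.Away (f i))ˣ, ∀ k i,
      IsNilpotent ((a k i : Localization.Away (f k * f i)) * toR (f k) (f i) (w i : Localization.Away (f i)) -
        toL (f k) (f i) (w k : Localization.Away (f k))) := by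
  classical
  have hp1 : 1 ≤ p := (Fact.out (p := p.Prime)).one_lt.le
  have hcast : ∀ (C : Type u) [CommRing C] [Algebra R[X] C], (p : C) = 0 := fun C _ _ => by
    rw [← map_natCast (algebraMap R[X] C) p, CharP.cast_eq_zero, map_zero]
  have hH : ∀ i, ∃ (n : ℕ) (H : R[X]),
      algebraMap _ (Localization.Away (f i)) H = (u i : Localization.Away (f i)) * algebraMap _ _ (f i) ^ (p * n) := by
    intro i
    obtain ⟨n, b, hb⟩ := IsLocalization.Away.surj (f i) (u i : Localization.Away (f i))
    refine ⟨n, b * f i ^ ((p - 1) * n), ?_⟩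
    rw [map_mul, ← hb, map_pow, mul_assoc, ← pow_add]
    congr 2
    obtain ⟨q, rfl⟩ := Nat.exists_eq_add_of_le hp1
    simp only [Nat.add_sub_cancel_left]
    ring
  choose n H hH using hH
  -- `H_k' H_i = H_i' H_k` on overlaps
  have hcross : ∀ k i, ∃ N : ℕ, (f k * f i) ^ N * (derivative (H k) * H i - derivative (H i) * H k) = 0 := by
    intro k i
    obtain ⟨m, b, hb⟩ := IsLocalization.Away.surj (f k * f i) (a k i : Localization.Away (f k * f i))
    have e : algebraMap _ (Localization.Away (f k * f i)) (H k * (f i ^ n i * (f k * f i) ^ m) ^ p) =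
        algebraMap _ _ (H i * (b * f k ^ n k) ^ p) := by
      have hk := congrArg (toL (f k) (f i)) (hH k)
      have hi := congrArg (toR (f k) (f i)) (hH i)
      rw [map_mul, map_pow, AlgHom.commutes, AlgHom.commutes, ← hu] at hk
      rw [map_mul, map_pow, AlgHom.commutes, AlgHom.commutes] at hi
      simp only [map_mul, map_pow, hk, hi, ← hb]
      ring
    obtain ⟨⟨_, M, rfl⟩, hM⟩ := (IsLocalization.eq_iff_exists (Submonoid.powers (f k * f i)) _).1 e
    let P := (f i ^ n i * (f k * f i) ^ m) * (f k * f i) ^ M
    let Q := (b * f k ^ n k) * (f k * f i) ^ M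
    have hPQ : H k * P ^ p = H i * Q ^ p := by
      simp only [P, Q]
      simp only at hM
      obtain ⟨q, hq⟩ := Nat.exists_eq_add_of_le hp1
      have e2 : ((f k * f i) ^ M) ^ p = (f k * f i) ^ M * ((f k * f i) ^ M) ^ q := by rw [hq, pow_add, pow_one]
      linear_combination ((f k * f i) ^ M) ^ q * hM +
        (H k * (f i ^ n i * (f k * f i) ^ m) ^ p - H i * (b * f k ^ n k) ^ p) * e2
    have hD := congrArg derivative hPQ
    rw [derivative_mul_pow_prime, derivative_mul_pow_prime] at hD
    have h0 : P ^ p * (derivative (H k) * H i - derivative (H i) * H k) = 0 := by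
      linear_combination H i * hD - derivative (H i) * hPQ
    have hP : IsUnit (algebraMap _ (Localization.Away (f k * f i)) (P ^ p)) := by
      have e1 := isUnit_fst (f k) (f i)
      have e2 := isUnit_snd (f k) (f i)
      simp only [P, map_pow, map_mul]
      exact (((e2.pow _).mul ((e1.mul e2).pow _)).mul ((e1.mul e2).pow _)).pow _
    have h1 := congrArg (algebraMap _ (Localization.Away (f k * f i))) h0
    rw [map_mul, map_zero] at h1
    obtain ⟨⟨_, N, rfl⟩, hN⟩ := (IsLocalization.map_eq_zero_iff (Submonoid.powers (f k * f i))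
      (Localization.Away (f k * f i)) _).1 (hP.mul_right_eq_zero.1 h1)
    exact ⟨N, hN⟩
  choose N₁ hN₁ using hcross
  have hinv : ∀ i, ∃ (r : ℕ) (K : R[X]), H i * K = f i ^ r := by
    intro i
    have h1 : IsUnit (algebraMap _ (Localization.Away (f i)) (H i)) := by
      rw [hH]; exact (u i).isUnit.mul ((isUnit_algebraMap_away _).pow _)
    obtain ⟨v, hv⟩ := h1.exists_right_inv
    obtain ⟨r, b, hb⟩ := IsLocalization.Away.surj (f i) v
    obtain ⟨⟨_, s, rfl⟩, hs⟩ := (IsLocalization.eq_iff_exists (Submonoid.powers (f i))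
      (Localization.Away (f i)) (x := H i * b) (y := f i ^ r)).1 (by
        rw [map_mul, map_pow, ← hb, ← mul_assoc, hv, one_mul])
    refine ⟨s + r, f i ^ s * b, ?_⟩
    simp only at hs
    rw [pow_add]
    linear_combination hs
  choose r K hK using hinv
  let N := Finset.univ.sup fun z : ι × ι => N₁ z.1 z.2
  have hN : ∀ k i, (f k * f i) ^ N * (derivative (H k) * H i - derivative (H i) * H k) = 0 := fun k i => by
    obtain ⟨d, hd⟩ := Nat.exists_eq_add_of_le' (show N₁ k i ≤ N from Finset.le_sup (f := fun z : ι × ι => N₁ z.1 z.2) (Finset.mem_univ (k, i)))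
    rw [hd, pow_add, mul_assoc, hN₁, mul_zero]
  obtain ⟨c, hc⟩ : ∃ c : ι → R[X], ∑ i, c i * (f i ^ N * f i ^ r i) = 1 := by
    obtain ⟨c, hc⟩ := span_pow_range f hf (fun i => N + r i)
    rw [Finsupp.sum_fintype _ _ (by simp)] at hc
    exact ⟨c, by simpa only [← pow_add] using hc⟩
  let g := ∑ i, c i * f i ^ N * (derivative (H i) * K i)
  have hg : ∀ k, f k ^ N * (derivative (H k) - g * H k) = 0 := fun k => by
    calc f k ^ N * (derivative (H k) - g * H k)
        = f k ^ N * (derivative (H k) * ∑ i, c i * (f i ^ N * f i ^ r i) - g * H k) := by rw [hc, mul_one]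
      _ = ∑ i, c i * K i * ((f k * f i) ^ N * (derivative (H k) * H i - derivative (H i) * H k)) := by
          simp only [g, Finset.mul_sum, Finset.sum_mul, ← Finset.sum_sub_distrib]
          refine Finset.sum_congr rfl fun i _ => ?_
          rw [← hK]
          ring
      _ = 0 := by simp [hN]
  -- exact equations
  let H' : ι → R[X] := fun k => H k * (f k ^ N) ^ p
  have hH' : ∀ k, derivative (H' k) = g * H' k := fun k => by
    obtain ⟨q, hq⟩ := Nat.exists_eq_add_of_le hp1
    have e2 : (f k ^ N) ^ p = f k ^ N * (f k ^ N) ^ q := by rw [hq, pow_add, pow_one]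
    simp only [H', derivative_mul_pow_prime]
    linear_combination (f k ^ N) ^ q * hg k + (derivative (H k) - g * H k) * e2
  have hgn : IsNilpotent g := by
    refine isNilpotent_logD p ?_
    have h1 : ∀ k, ∃ s, f k ^ s * logD g p = 0 := fun k => by
      refine ⟨r k + N * p, ?_⟩
      have h2 := iterate_derivative_eq (hH' k) p
      rw [iterate_derivative_charP] at h2
      simp only [H'] at h2
      rw [pow_add, pow_mul, ← hK]
      linear_combination -(K k) * h2
    choose s hs using h1
    obtain ⟨c', hc'⟩ : ∃ c' : ι → R[X], ∑ i, c' i * f i ^ s i = 1 := by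
      obtain ⟨c, hc⟩ := span_pow_range f hf s
      rw [Finsupp.sum_fintype _ _ (by simp)] at hc
      exact ⟨c, hc⟩
    rw [← one_mul (logD g p), ← hc', Finset.sum_mul]
    simp [mul_assoc, hs]
  -- `p`-th roots
  have hG : ∀ k, ∃ G : R[X], IsNilpotent (H' k - G ^ p) := fun k => by
    obtain ⟨G, hG⟩ := Polynomial.map_surjective (frobenius R p) hF (contract p (H' k))
    refine ⟨G, ?_⟩
    have e : G ^ p = expand R p (contract p (H' k)) := by
      rw [← map_frobenius_expand (R := R) p G, map_expand, hG]
    rw [e]
    refine isNilpotent_sub_expand p ?_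
    rw [hH']
    exact Commute.isNilpotent_mul_right (Commute.all _ _) hgn
  choose G hG using hG
  have hW : ∀ k, ∃ w : (Localization.Away (f k))ˣ,
      IsNilpotent ((u k : Localization.Away (f k)) - (w : Localization.Away (f k)) ^ p) := fun k => by
    let φ := algebraMap R[X] (Localization.Away (f k))
    obtain ⟨q, hq⟩ := ((isUnit_algebraMap_away (f k)).pow (n k + N)).exists_right_inv
    have hnil : IsNilpotent ((u k : Localization.Away (f k)) - (φ (G k) * q) ^ p) := by
      have e : (u k : Localization.Away (f k)) - (φ (G k) * q) ^ p = φ (H' k - G k ^ p) * q ^ p := by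
        have hqp : (φ (f k) ^ (n k + N)) ^ p * q ^ p = 1 := by rw [← mul_pow, hq, one_pow]
        simp only [H', φ, map_sub, map_mul, map_pow, hH]
        linear_combination -(u k : Localization.Away (f k)) * hqp
      rw [e]
      exact Commute.isNilpotent_mul_right (Commute.all _ _) ((hG k).map φ)
    have hu' : IsUnit ((φ (G k) * q) ^ p) := by
      have := hnil.neg.isUnit_add_left_of_commute (u k).isUnit (Commute.all _ _)
      rwa [neg_sub, add_sub_cancel] at this
    exact ⟨((isUnit_pow_iff (Fact.out (p := p.Prime)).ne_zero).1 hu').unit, hnil⟩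
  choose w hw using hW
  refine ⟨w, fun k i => IsNilpotent.of_pow (m := p) ?_⟩
  rw [sub_pow_prime p (hcast _), mul_pow, ← map_pow, ← map_pow]
  have e : (a k i : Localization.Away (f k * f i)) ^ p * toR (f k) (f i) ((w i : Localization.Away (f i)) ^ p) -
      toL (f k) (f i) ((w k : Localization.Away (f k)) ^ p) =
      toL (f k) (f i) ((u k : Localization.Away (f k)) - (w k : Localization.Away (f k)) ^ p) -
      (a k i : Localization.Away (f k * f i)) ^ p *
        toR (f k) (f i) ((u i : Localization.Away (f i)) - (w i : Localization.Away (f i)) ^ p) := by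
    rw [map_sub (toL (f k) (f i)), map_sub (toR (f k) (f i))]
    linear_combination hu k i
  rw [e]
  exact (Commute.all _ _).isNilpotent_sub ((hw k).map _) (Commute.isNilpotent_mul_left (Commute.all _ _) ((hw i).map _))

end Main

end Groth.Agent.GaFrob87
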