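import Groth.Agent.GaExt87.Univ
import Groth.Agent.GaFrob87.Deriv
import Groth.Agent.GaExt.Split

/-!
# Lifting `p`-torsion sections over the affine line, and extensions of `G_a` by `G_m` over rings with surjective Frobenius
-/

set_option autoImplicit false
set_option linter.style.haveILetI false

universe u

open CategoryTheory CategoryTheory.Limits AlgebraicGeometry Opposite MonObj GrpObj MonoidalCategory CartesianMonoidalCategory
open Groth.Agent.SGA1Torsor Groth.Agent.GaExt87

noncomputable section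

namespace Groth.Agent.GaFrob87

local notation "Kf" => Scheme.fppfPrecoverage

section Global

variable {S : Scheme.{u}} {I Q : BigSite.Ab Kf S} {em : CGrpSh2.Gm Kf S ⟶ I} {π : I ⟶ Q} {w : em ≫ π = 0}
variable {B : Type u} [CommRing B] (j : Spec (CommRingCat.of B) ⟶ S)

theorem emQ_one {A : Type u} [CommRing A] (j : Spec (CommRingCat.of A) ⟶ S) {R : Type u} [CommRing R] [Algebra A R] :
    emQ em j (1 : Rˣ) = 0 := by
  have := emQ_mul (em := em) j (1 : Rˣ) 1
  rw [_root_.mul_one] at this
  exact left_eq_add.1 this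

theorem emQ_pow {A : Type u} [CommRing A] (j : Spec (CommRingCat.of A) ⟶ S) {R : Type u} [CommRing R] [Algebra A R]
    (a : Rˣ) : ∀ n : ℕ, emQ em j (a ^ n) = n • emQ em j a
  | 0 => by rw [pow_zero, zero_smul, emQ_one]
  | n + 1 => by rw [pow_succ, emQ_mul, emQ_pow j a n, succ_nsmul]

/-- The map to the chart. -/
def st (R : Type u) [CommRing R] [Algebra B R] : QA j R ⟶ Over.mk j :=
  Over.homMk (Spec.map (CommRingCat.ofHom (algebraMap B R))) rfl

theorem qmap_st {R R' : Type u} [CommRing R] [Algebra B R] [CommRing R'] [Algebra B R'] (φ : R →ₐ[B] R') :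
    qmap j φ ≫ st j R = st j R' :=
  Over.OverMorphism.ext (by
    show Spec.map _ ≫ Spec.map _ = Spec.map _
    rw [← Spec.map_comp, ← CommRingCat.ofHom_comp]
    exact congrArg (fun r => Spec.map (CommRingCat.ofHom r)) φ.comp_algebraMap)

theorem rr_qmap_st (F : BigSite.Ab Kf S) {R R' : Type u} [CommRing R] [Algebra B R] [CommRing R'] [Algebra B R']
    (φ : R →ₐ[B] R') (s : BigSite.sect Kf F (Over.mk j)) : rr F (qmap j φ) (rr F (st j R) s) = rr F (st j R') s := by
  rw [← rr_comp, qmap_st]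

/-- A section killed by `p` lifts over the spectrum of `R[X]`. -/
theorem exists_lift_torsion (hS : (ShortComplex.mk em π w).ShortExact) {R : Type u} [CommRing R] (p : ℕ) [Fact p.Prime]
    [CharP R p] (hF : Function.Surjective (frobenius R p)) (j : Spec (CommRingCat.of (Polynomial R)) ⟶ S)
    (s : BigSite.sect Kf Q (Over.mk j)) (hs : p • s = 0) : ∃ t, sap π (Over.mk j) t = s := by
  classical
  let T : Set (Polynomial R) := {f | ∃ y : BigSite.sect Kf I (QA j (Localization.Away f)),
    sap π _ y = rr Q (st j (Localization.Away f)) s}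
  have hT : Ideal.span T = ⊤ := by
    by_contra hne
    obtain ⟨P, hP, hle⟩ := Ideal.exists_le_maximal _ hne
    obtain ⟨V, hPV, t, ht⟩ := exists_lift_basicOpen hS j s ⟨P, hP.isPrime⟩
    obtain ⟨_, ⟨f, rfl⟩, hPf, hfV⟩ :=
      PrimeSpectrum.isTopologicalBasis_basic_opens.exists_subset_of_mem_open hPV V.isOpen
    refine hPf (hle (Ideal.subset_span ?_))
    let l : Spec (CommRingCat.of (Localization.Away f)) ⟶ (V : Scheme.{u}) :=
      IsOpenImmersion.lift V.ι (Spec.map (CommRingCat.ofHom (algebraMap _ (Localization.Away f)))) (by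
        rw [Scheme.Opens.range_ι]
        show Set.range (PrimeSpectrum.comap (algebraMap _ (Localization.Away f))) ⊆ _
        rw [PrimeSpectrum.localization_away_comap_range (Localization.Away f) f]
        exact hfV)
    have hl : l ≫ V.ι = Spec.map (CommRingCat.ofHom (algebraMap _ (Localization.Away f))) :=
      IsOpenImmersion.lift_fac _ _ _
    let g : QA j (Localization.Away f) ⟶ Over.mk (V.ι ≫ j) := Over.homMk l (by
      show l ≫ V.ι ≫ j = Spec.map _ ≫ j
      rw [reassoc_of% hl])
    refine ⟨rr I g t, ?_⟩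
    rw [sap_rr, ht, ← rr_comp]
    exact congrArg (fun h => rr Q h s) (Over.OverMorphism.ext hl)
  obtain ⟨T', hT'T, hT'⟩ := Submodule.mem_span_finite_of_mem_span ((Ideal.eq_top_iff_one _).1 hT)
  let e := T'.equivFin.symm
  let f : Fin T'.card → Polynomial R := fun i => (e i : Polynomial R)
  have hf : Ideal.span (Set.range f) = ⊤ := (Ideal.eq_top_iff_one _).2 (by
    refine Ideal.span_mono ?_ hT'
    intro x hx
    exact ⟨e.symm ⟨x, hx⟩, by simp [f]⟩)
  choose y hy using fun i : Fin T'.card => hT'T (e i).2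
  have hd : ∀ k i, ∃ a : (Localization.Away (f k * f i))ˣ,
      emQ em j a = rr I (qmap j (toL (f k) (f i))) (y k) - rr I (qmap j (toR (f k) (f i))) (y i) := fun k i =>
    exists_emQ hS j _ (by rw [map_sub, sap_rr, sap_rr, hy, hy, rr_qmap_st, rr_qmap_st, sub_self])
  choose a ha using hd
  have hu : ∀ i, ∃ u : (Localization.Away (f i))ˣ, emQ em j u = p • y i := fun i =>
    exists_emQ hS j _ (by rw [map_nsmul, hy, ← map_nsmul, hs, map_zero])
  choose u hu using hu
  have hrel : ∀ k i, (a k i : Localization.Away (f k * f i)) ^ p * toR (f k) (f i) (u i : Localization.Away (f i)) =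
      toL (f k) (f i) (u k : Localization.Away (f k)) := fun k i =>
    congrArg Units.val (emQ_injective hS j
      (a₁ := a k i ^ p * Units.map (toR (f k) (f i)).toMonoidHom (u i))
      (a₂ := Units.map (toL (f k) (f i)).toMonoidHom (u k)) (by
        rw [emQ_mul, emQ_pow, ← rr_emQ, ← rr_emQ, ha, hu, hu, map_nsmul, map_nsmul, ← nsmul_add, sub_add_cancel]))
  have hc : IsCoc f a := fun k l i C _ _ h₁ h₂ h₃ =>
    congrArg Units.val (emQ_injective hS j
      (a₁ := Units.map (awayTo _ C h₁).toMonoidHom (a k l) * Units.map (awayTo _ C h₂).toMonoidHom (a l i))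
      (a₂ := Units.map (awayTo _ C h₃).toMonoidHom (a k i)) (by
        rw [emQ_mul, ← rr_emQ, ← rr_emQ, ← rr_emQ, ha, ha, ha, map_sub, map_sub, map_sub, rr_qmap_qmap,
          rr_qmap_qmap, rr_qmap_qmap, rr_qmap_qmap, rr_qmap_qmap, rr_qmap_qmap,
          away_hom_ext ((awayTo _ C h₂).comp (toL (f l) (f i))) ((awayTo _ C h₁).comp (toR (f k) (f l))),
          away_hom_ext ((awayTo _ C h₃).comp (toL (f k) (f i))) ((awayTo _ C h₁).comp (toL (f k) (f l))),
          away_hom_ext ((awayTo _ C h₃).comp (toR (f k) (f i))) ((awayTo _ C h₂).comp (toR (f l) (f i)))]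
        abel))
  obtain ⟨v, hv⟩ := exists_approx p f hF hf a u hrel
  obtain ⟨t, ht⟩ := exists_coboundary f hf a hc v hv
  let y' : ∀ i, BigSite.sect Kf I (QA j (Localization.Away (f i))) := fun i => y i - emQ em j (t i)
  have hy' : ∀ k i, rr I (qmap j (toL (f k) (f i))) (y' k) = rr I (qmap j (toR (f k) (f i))) (y' i) := fun k i => by
    have h1 : Units.map (toL (f k) (f i)).toMonoidHom (t k) =
        a k i * Units.map (toR (f k) (f i)).toMonoidHom (t i) := Units.ext (ht k i).symm
    simp only [y', map_sub, rr_emQ]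
    rw [h1, emQ_mul, ha]
    abel
  have himm : ∀ (g : Polynomial R), IsOpenImmersion (st j (Localization.Away g)).left := fun g =>
    IsOpenImmersion.of_isLocalization g
  have hrange : ∀ (g : Polynomial R),
      Set.range (st j (Localization.Away g)).left = (PrimeSpectrum.basicOpen g : Set (PrimeSpectrum (Polynomial R))) :=
    fun g => PrimeSpectrum.localization_away_comap_range (Localization.Away g) g
  have hcov : Presieve.ofArrows (fun i => (QA j (Localization.Away (f i))).left)
      (fun i => (st j (Localization.Away (f i))).left) ∈ (Kf).coverings (Over.mk j).left := by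
    refine Scheme.zariskiPrecoverage_le_fppfPrecoverage _ ?_
    rw [Scheme.zariskiPrecoverage, Scheme.ofArrows_mem_precoverage_iff]
    refine ⟨fun x => ?_, fun i => himm _⟩
    obtain ⟨i, hi⟩ : ∃ i, f i ∉ (show PrimeSpectrum (Polynomial R) from x).asIdeal := by
      by_contra hne
      push Not at hne
      exact (show PrimeSpectrum (Polynomial R) from x).isPrime.ne_top
        (top_le_iff.1 (hf ▸ Ideal.span_le.2 (Set.range_subset_iff.2 hne)))
    exact ⟨i, (hrange (f i)).ge hi⟩
  obtain ⟨t', ht'⟩ := exists_glue I (fun i => QA j (Localization.Away (f i))) (fun i => st j (Localization.Away (f i)))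
    hcov y' (fun k i Z gk gi hg => by
      haveI := himm (f k * f i)
      haveI := himm (f k)
      haveI := himm (f i)
      let l : Z.left ⟶ (QA j (Localization.Away (f k * f i))).left :=
        IsOpenImmersion.lift (st j (Localization.Away (f k * f i))).left (gk.left ≫ (st j _).left) (by
          rintro _ ⟨z, rfl⟩
          rw [hrange]
          show f k * f i ∉ ((gk.left ≫ (st j (Localization.Away (f k))).left) z).asIdeal
          intro hmem
          rcases ((gk.left ≫ (st j (Localization.Away (f k))).left) z).isPrime.mem_or_mem hmem with h | h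
          · exact (hrange (f k)).le ⟨gk.left z, rfl⟩ (by simpa using h)
          · have e : gk.left ≫ (st j (Localization.Away (f k))).left = gi.left ≫ (st j (Localization.Away (f i))).left :=
              congrArg CommaMorphism.left hg
            rw [e] at h
            exact (hrange (f i)).le ⟨gi.left z, rfl⟩ (by simpa using h))
      have hl : l ≫ (st j (Localization.Away (f k * f i))).left = gk.left ≫ (st j (Localization.Away (f k))).left :=
        IsOpenImmersion.lift_fac _ _ _
      let h : Z ⟶ QA j (Localization.Away (f k * f i)) := Over.homMk l (by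
        show l ≫ (Spec.map _ ≫ j) = Z.hom
        rw [← Category.assoc]
        exact (congrArg (· ≫ j) hl).trans ((Category.assoc _ _ _).trans (Over.w gk)))
      have hk : h ≫ qmap j (toL (f k) (f i)) = gk := Over.OverMorphism.ext ((cancel_mono (st j _).left).1 (by
        refine Eq.trans ?_ hl
        exact (Category.assoc _ _ _).trans (congrArg (l ≫ ·) (congrArg CommaMorphism.left (qmap_st j (toL (f k) (f i)))))))
      have hi : h ≫ qmap j (toR (f k) (f i)) = gi := Over.OverMorphism.ext ((cancel_mono (st j _).left).1 (by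
        refine Eq.trans ?_ (hl.trans (congrArg CommaMorphism.left hg))
        exact (Category.assoc _ _ _).trans (congrArg (l ≫ ·) (congrArg CommaMorphism.left (qmap_st j (toR (f k) (f i)))))))
      rw [← hk, ← hi, rr_comp, rr_comp, hy'])
  refine ⟨t', eq_of_cover Q (fun i => QA j (Localization.Away (f i))) (fun i => st j (Localization.Away (f i)))
    hcov fun i => ?_⟩
  rw [← sap_rr, ht', map_sub, hy, show sap π _ (emQ em j (t i)) = 0 from sap_emb em _ _ w, sub_zero]

end Global

section Ext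

variable {R : Type u} [CommRing R] (p : ℕ) [Fact p.Prime] [CharP R p]
variable {I Q : BigSite.Ab Kf (Spec (CommRingCat.of R))} {em : CGrpSh2.Gm Kf (Spec (CommRingCat.of R)) ⟶ I}
  {π : I ⟶ Q} {w : em ≫ π = 0}

theorem gaQ_zero {D : Type u} [CommRing D] [Algebra R D] : gaQ (j₀ R) (0 : D) = 1 := by
  let : Group (QA (j₀ R) D ⟶ Red.Ga (Spec (CommRingCat.of R))) := Hom.group
  have h := gaQ_mul (j₀ R) (R := D) 0 0
  rw [add_zero] at h
  exact left_eq_mul.1 h

theorem qmap_eq_coord {D : Type u} [CommRing D] [Algebra R D] (c : D) :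
    qmap (j₀ R) (Polynomial.aeval c) = coord (gaQ (j₀ R) c) := by
  have h : qmap (j₀ R) (Polynomial.aeval c) ≫ ptX R = gaQ (j₀ R) c :=
    (comp_gaQ (j₀ R) _ _).trans (congrArg (gaQ (j₀ R)) (Polynomial.aeval_X c))
  rw [← h, ← comp_coord, ptX_coord, Category.comp_id]

theorem nsmul_pE_ptX : p • (pE (ptX R) : BigSite.sect Kf (CGrpSh2.Ga Kf _) _) = 0 := by
  have h : ∀ n : ℕ, n • (pE (ptX R) : BigSite.sect Kf (CGrpSh2.Ga Kf _) _) =
      pE (gaQ (j₀ R) ((n : Polynomial R) * Polynomial.X)) := by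
    intro n
    induction n with
    | zero => rw [zero_smul, Nat.cast_zero, zero_mul, gaQ_zero]; rfl
    | succ n ih =>
      rw [succ_nsmul, ih, Nat.cast_succ, add_mul, _root_.one_mul, gaQ_mul]
      rfl
  rw [h, CharP.cast_eq_zero, zero_mul, gaQ_zero]
  rfl

/-- Morphisms from the additive group to a quotient by the multiplicative group lift. -/
theorem exists_hom_lift (hS : (ShortComplex.mk em π w).ShortExact) (hF : Function.Surjective (frobenius R p))
    (σ : CGrpSh2.Ga Kf (Spec (CommRingCat.of R)) ⟶ Q) : ∃ τ : CGrpSh2.Ga Kf _ ⟶ I, τ ≫ π = σ := by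
  obtain ⟨x, hx⟩ := exists_lift_torsion hS p hF
    (Spec.map (CommRingCat.ofHom (algebraMap R (Polynomial R))) ≫ j₀ R) (sap σ _ (pE (ptX R))) (by
      rw [← map_nsmul, nsmul_pE_ptX]
      exact map_zero _)
  let x₁ : BigSite.sect Kf I (QA (j₀ R) (Polynomial R)) := x
  have hx₁ : sap π _ x₁ = sap σ _ (pE (ptX R)) := hx
  let Lx : BigSite.sect Kf I (QA (j₀ R) (Polynomial R)) →
      ∀ {T : Over (Spec (CommRingCat.of R))}, (T ⟶ Red.Ga _) → BigSite.sect Kf I T :=
    fun z {T} q => rr I (coord q) z - rr I (coord 1) z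
  have hL : ∀ z {T T' : Over (Spec (CommRingCat.of R))} (h : T' ⟶ T) (q : T ⟶ Red.Ga _),
      rr I h (Lx z q) = Lx z (h ≫ q) := fun z T T' h q => by
    simp only [Lx, map_sub, ← rr_comp, comp_coord, MonObj.comp_one]
  let Ex : BigSite.sect Kf I (QA (j₀ R) (Polynomial R)) →
      ∀ {T : Over (Spec (CommRingCat.of R))}, (T ⟶ Red.Ga _) → (T ⟶ Red.Ga _) → BigSite.sect Kf I T :=
    fun z {T} q q' => Lx z q + Lx z q' - Lx z (q * q')
  have hE : ∀ z {T T' : Over (Spec (CommRingCat.of R))} (h : T' ⟶ T) (q q' : T ⟶ Red.Ga _),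
      rr I h (Ex z q q') = Ex z (h ≫ q) (h ≫ q') := fun z T T' h q q' => by
    simp only [Ex, map_sub, map_add, hL, MonObj.comp_mul]
  have hπL : ∀ {T : Over (Spec (CommRingCat.of R))} (q : T ⟶ Red.Ga _), sap π T (Lx x₁ q) = sap σ T (pE q) :=
    fun q => by
      simp only [Lx, map_sub, sap_rr, hx₁]
      rw [← sap_rr, ← sap_rr, rr_pE, rr_pE, coord_ptX, coord_ptX, pE_one, map_zero, sub_zero]
  obtain ⟨v, hv⟩ := exists_emQ hS (j₀ R)
    (Ex x₁ (gaQ (j₀ R) (MvPolynomial.X 0 : MvPolynomial (Fin 2) R)) (gaQ (j₀ R) (MvPolynomial.X 1))) (by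
      simp only [Ex, map_sub, map_add, hπL, pE_mul, sub_self])
  have key : ∀ (D : Type u) [CommRing D] [Algebra R D] (c d : D), Ex x₁ (gaQ (j₀ R) c) (gaQ (j₀ R) d) =
      emQ em (j₀ R) (Units.map (MvPolynomial.aeval ![c, d] : MvPolynomial (Fin 2) R →ₐ[R] D).toMonoidHom v) := by
    intro D _ _ c d
    let φ : MvPolynomial (Fin 2) R →ₐ[R] D := MvPolynomial.aeval ![c, d]
    have e₀ : qmap (j₀ R) φ ≫ gaQ (j₀ R) (MvPolynomial.X 0) = gaQ (j₀ R) c :=
      (comp_gaQ (j₀ R) φ _).trans (congrArg (gaQ (j₀ R)) (MvPolynomial.aeval_X _ _))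
    have e₁ : qmap (j₀ R) φ ≫ gaQ (j₀ R) (MvPolynomial.X 1) = gaQ (j₀ R) d :=
      (comp_gaQ (j₀ R) φ _).trans (congrArg (gaQ (j₀ R)) (MvPolynomial.aeval_X _ _))
    rw [← e₀, ← e₁, ← hE, ← hv, rr_emQ]
  have hc0 : (v : MvPolynomial (Fin 2) R).coeff 0 = 1 := by
    let : Group (QA (j₀ R) R ⟶ Red.Ga (Spec (CommRingCat.of R))) := Hom.group
    have h0 : Ex x₁ (gaQ (j₀ R) (0 : R)) (gaQ (j₀ R) (0 : R)) = 0 := by
      simp only [Ex, Lx, gaQ_zero]; rw [_root_.one_mul]; abel
    have h1 := congrArg Units.val (emQ_injective hS (j₀ R) (((key R 0 0).symm.trans h0).trans (emQ_one (j₀ R)).symm))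
    change MvPolynomial.aeval ![(0 : R), 0] (v : MvPolynomial (Fin 2) R) = 1 at h1
    rw [show (![(0 : R), 0]) = fun _ => (0 : R) from by funext i; fin_cases i <;> rfl] at h1
    rwa [← MvPolynomial.constantCoeff_eq, ← show (MvPolynomial.aeval (fun _ => (0 : R))) (v : MvPolynomial (Fin 2) R) =
      MvPolynomial.constantCoeff (v : MvPolynomial (Fin 2) R) from by simp]
  have hsymm : ∀ (D : Type u) [CommRing D] [Algebra R D] (c d : D),
      MvPolynomial.aeval ![d, c] (v : MvPolynomial (Fin 2) R) = MvPolynomial.aeval ![c, d] (v : MvPolynomial (Fin 2) R) :=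
    fun D _ _ c d => congrArg Units.val (emQ_injective hS (j₀ R) ((key D d c).symm.trans (Eq.trans (by
      simp only [Ex]
      rw [← gaQ_mul, ← gaQ_mul, add_comm d c]
      abel) (key D c d))))
  have hcoc : ∀ (D : Type u) [CommRing D] [Algebra R D] (a b c : D),
      MvPolynomial.aeval ![b, c] (v : MvPolynomial (Fin 2) R) * MvPolynomial.aeval ![a, b + c] (v : MvPolynomial (Fin 2) R) =
      MvPolynomial.aeval ![a + b, c] (v : MvPolynomial (Fin 2) R) * MvPolynomial.aeval ![a, b] (v : MvPolynomial (Fin 2) R) :=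
    fun D _ _ a b c => congrArg Units.val (emQ_injective hS (j₀ R)
      (a₁ := Units.map (MvPolynomial.aeval ![b, c] : MvPolynomial (Fin 2) R →ₐ[R] D).toMonoidHom v *
        Units.map (MvPolynomial.aeval ![a, b + c] : MvPolynomial (Fin 2) R →ₐ[R] D).toMonoidHom v)
      (a₂ := Units.map (MvPolynomial.aeval ![a + b, c] : MvPolynomial (Fin 2) R →ₐ[R] D).toMonoidHom v *
        Units.map (MvPolynomial.aeval ![a, b] : MvPolynomial (Fin 2) R →ₐ[R] D).toMonoidHom v) (by
        rw [emQ_mul, emQ_mul, ← key, ← key, ← key, ← key]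
        simp only [Ex]
        rw [← gaQ_mul, ← gaQ_mul, ← gaQ_mul, ← gaQ_mul, add_assoc a b c]
        abel))
  obtain ⟨f, hf⟩ := GaExt.exists_splitting p hF (v : MvPolynomial (Fin 2) R) v.isUnit hc0
    ⟨(hsymm _ (MvPolynomial.X 0) (MvPolynomial.X 1)).trans (by
        rw [show (![MvPolynomial.X 0, MvPolynomial.X 1] : Fin 2 → MvPolynomial (Fin 2) R) = MvPolynomial.X from by funext i; fin_cases i <;> rfl]
        exact MvPolynomial.aeval_X_left_apply _),
      hcoc _ (MvPolynomial.X 0) (MvPolynomial.X 1) (MvPolynomial.X 2)⟩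
  let x₂ := x₁ + emQ em (j₀ R) f
  have hF' : ∀ (D : Type u) [CommRing D] [Algebra R D] (c : D), Lx x₂ (gaQ (j₀ R) c) = Lx x₁ (gaQ (j₀ R) c) +
      (emQ em (j₀ R) (Units.map (Polynomial.aeval c : Polynomial R →ₐ[R] D).toMonoidHom f) -
        emQ em (j₀ R) (Units.map (Polynomial.aeval (0 : D) : Polynomial R →ₐ[R] D).toMonoidHom f)) := by
    intro D _ _ c
    simp only [Lx, x₂, map_add, ← rr_emQ, qmap_eq_coord, gaQ_zero]
    abel
  have hzero : Ex x₂ (gaQ (j₀ R) (MvPolynomial.X 0 : MvPolynomial (Fin 2) R)) (gaQ (j₀ R) (MvPolynomial.X 1)) = 0 := by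
    have hf0 : ∀ (D : Type u) [CommRing D] [Algebra R D],
        Units.map (Polynomial.aeval (0 : D) : Polynomial R →ₐ[R] D).toMonoidHom f = 1 := fun D _ _ => by
      refine Units.ext ?_
      have h1 := congrArg (MvPolynomial.aeval ![(0 : R), 0]) hf
      rw [map_mul, map_one, show MvPolynomial.aeval ![(0 : R), 0] (v : MvPolynomial (Fin 2) R) = 1 from by
        rw [show (![(0 : R), 0]) = fun _ => (0 : R) from by funext i; fin_cases i <;> rfl]
        simpa [← MvPolynomial.constantCoeff_eq] using hc0, _root_.mul_one] at h1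
      simp only [GaExt.dlt, map_mul, GaExt.at0, GaExt.at1, GaExt.at01, ← Polynomial.aeval_algHom_apply, map_add,
        MvPolynomial.aeval_X, Matrix.cons_val_zero, Matrix.cons_val_one, add_zero] at h1
      rw [_root_.mul_assoc, ← map_mul (Polynomial.aeval (0 : R)), Units.mul_inv, map_one, _root_.mul_one] at h1
      show Polynomial.aeval (0 : D) (f : Polynomial R) = 1
      have h2 := congrArg (algebraMap R D) h1
      rw [← Polynomial.aeval_algebraMap_apply, map_zero, map_one] at h2
      exact h2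
    have hu : Units.map (Polynomial.aeval (MvPolynomial.X 0) : Polynomial R →ₐ[R] MvPolynomial (Fin 2) R).toMonoidHom f *
        Units.map (Polynomial.aeval (MvPolynomial.X 1) : Polynomial R →ₐ[R] MvPolynomial (Fin 2) R).toMonoidHom f * v =
        Units.map (Polynomial.aeval (MvPolynomial.X 0 + MvPolynomial.X 1) :
          Polynomial R →ₐ[R] MvPolynomial (Fin 2) R).toMonoidHom f := Units.ext (by
      have e := GaExt.at01_mul_inv f
      simp only [GaExt.dlt, GaExt.at0, GaExt.at1, GaExt.at01] at hf e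
      show Polynomial.aeval (MvPolynomial.X 0 : MvPolynomial (Fin 2) R) (f : Polynomial R) *
        Polynomial.aeval (MvPolynomial.X 1 : MvPolynomial (Fin 2) R) (f : Polynomial R) * (v : MvPolynomial (Fin 2) R) =
        Polynomial.aeval (MvPolynomial.X 0 + MvPolynomial.X 1 : MvPolynomial (Fin 2) R) (f : Polynomial R)
      linear_combination Polynomial.aeval (MvPolynomial.X 0 + MvPolynomial.X 1 : MvPolynomial (Fin 2) R) (f : Polynomial R) * hf -
        (Polynomial.aeval (MvPolynomial.X 0 : MvPolynomial (Fin 2) R) (f : Polynomial R) *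
          Polynomial.aeval (MvPolynomial.X 1 : MvPolynomial (Fin 2) R) (f : Polynomial R) * (v : MvPolynomial (Fin 2) R)) * e)
    have h3 := congrArg (emQ em (j₀ R)) hu
    rw [emQ_mul, emQ_mul, hv] at h3
    simp only [Ex] at h3 ⊢
    rw [← gaQ_mul, hF', hF', hF', hf0, emQ_one]
    rw [← gaQ_mul] at h3
    rw [← h3]
    abel
  have hadd : ∀ {T : Over (Spec (CommRingCat.of R))} (q q' : T ⟶ Red.Ga _), Lx x₂ (q * q') = Lx x₂ q + Lx x₂ q' := by
    intro T q q'
    let φ : MvPolynomial (Fin 2) R →+* Γ(T.left, ⊤) := MvPolynomial.eval₂Hom (str T) ![Red.gaFn q, Red.gaFn q']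
    let h : T ⟶ QA (j₀ R) (MvPolynomial (Fin 2) R) :=
      toQA φ (RingHom.ext fun a => MvPolynomial.eval₂_C _ _ a)
    have hq : h ≫ gaQ (j₀ R) (MvPolynomial.X 0) = q := RedPts.ga_injective (by
      rw [gaFn_comp_gaQ, app_toQA]; exact MvPolynomial.eval₂_X _ _ _)
    have hq' : h ≫ gaQ (j₀ R) (MvPolynomial.X 1) = q' := RedPts.ga_injective (by
      rw [gaFn_comp_gaQ, app_toQA]; exact MvPolynomial.eval₂_X _ _ _)
    have h1 := congrArg (rr I h) hzero
    rw [hE, map_zero, hq, hq'] at h1
    exact (sub_eq_zero.1 h1).symm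
  let τ : CGrpSh2.Ga Kf (Spec (CommRingCat.of R)) ⟶ I := ⟨{
    app := fun T => AddCommGrpCat.ofHom (AddMonoidHom.mk'
      (fun z => Lx x₂ (show unop T ⟶ Red.Ga _ from Additive.toMul (ULift.down z))) (fun z z' => hadd _ _))
    naturality := fun T T' h => AddCommGrpCat.ext fun z => (hL x₂ h.unop _).symm }⟩
  refine ⟨τ, Sheaf.hom_ext (NatTrans.ext (funext fun T => AddCommGrpCat.ext fun z => ?_))⟩
  let q : unop T ⟶ Red.Ga _ := Additive.toMul (ULift.down z)
  show sap π _ (Lx x₂ q) = sap σ _ (pE q)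
  rw [← hπL]
  simp only [Lx, x₂, map_add, map_sub, sap_rr, show sap π _ (emQ em (j₀ R) f) = 0 from sap_emb em _ _ w, map_zero, add_zero]

/-- `Ext^1(G_a, G_m) = 0` over rings with surjective Frobenius. -/
theorem subsingleton_ext_one (hF : Function.Surjective (frobenius R p)) :
    Subsingleton (CGrpSh.ExtS Scheme.fppfPrecoverage
      (Red.Ga (Spec (CommRingCat.of R))) (Red.Gm (Spec (CommRingCat.of R))) 1) := by
  refine subsingleton_of_forall_eq 0 fun e => ?_
  let S' := ShortComplex.mk (Injective.ι (CGrpSh2.Gm Kf (Spec (CommRingCat.of R))))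
    (cokernel.π (Injective.ι (CGrpSh2.Gm Kf (Spec (CommRingCat.of R))))) (cokernel.condition _)
  have hS' : S'.ShortExact := { exact := ShortComplex.exact_cokernel _ }
  obtain ⟨σ₀, hσ₀⟩ := Abelian.Ext.covariant_sequence_exact₁ _ hS' e
    (Abelian.Ext.eq_zero_of_injective _) (rfl : 0 + 1 = 1)
  obtain ⟨σ, rfl⟩ := (Abelian.Ext.mk₀_bijective _ _).2 σ₀
  obtain ⟨τ, hτ⟩ := exists_hom_lift p hS' hF σ
  rw [← hσ₀, ← hτ, ← Abelian.Ext.mk₀_comp_mk₀, Abelian.Ext.comp_assoc_of_second_deg_zero, hS'.comp_extClass,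
    Abelian.Ext.comp_zero]

end Ext

end Groth.Agent.GaFrob87
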