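import Mathlib.RingTheory.Localization.Away.Basic
import Mathlib.RingTheory.Nilpotent.Basic
import Mathlib.RingTheory.Ideal.Operations
import Mathlib.Tactic.LinearCombination
import Mathlib.Tactic.Ring

/-!
# Unit cocycles that are coboundaries modulo nilpotents are coboundaries
-/

set_option autoImplicit false

universe u

namespace Groth.Agent.GaFrob87

variable {B : Type u} [CommRing B]

/-- The map out of a localization away from an element. -/
noncomputable def awayTo (f : B) (C : Type u) [CommRing C] [Algebra B C] (h : IsUnit (algebraMap B C f)) :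
    Localization.Away f →ₐ[B] C :=
  IsLocalization.liftAlgHom (M := Submonoid.powers f) (f := Algebra.ofId B C) (by
    rintro ⟨_, n, rfl⟩
    show IsUnit (algebraMap B C (f ^ n))
    rw [map_pow]
    exact h.pow n)

theorem away_hom_ext {f : B} {C : Type u} [CommRing C] [Algebra B C] (φ ψ : Localization.Away f →ₐ[B] C) : φ = ψ :=
  AlgHom.coe_ringHom_injective (IsLocalization.ringHom_ext (Submonoid.powers f)
    (φ.comp_algebraMap.trans ψ.comp_algebraMap.symm))

theorem isUnit_algebraMap_away (f : B) : IsUnit (algebraMap B (Localization.Away f) f) :=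
  IsLocalization.map_units (Localization.Away f) (⟨f, Submonoid.mem_powers f⟩ : Submonoid.powers f)

theorem isUnit_fst (f g : B) : IsUnit (algebraMap B (Localization.Away (f * g)) f) :=
  isUnit_of_mul_isUnit_left (y := algebraMap B (Localization.Away (f * g)) g) (by
    rw [← map_mul]; exact isUnit_algebraMap_away _)

theorem isUnit_snd (f g : B) : IsUnit (algebraMap B (Localization.Away (f * g)) g) :=
  isUnit_of_mul_isUnit_right (x := algebraMap B (Localization.Away (f * g)) f) (by
    rw [← map_mul]; exact isUnit_algebraMap_away _)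

/-- Restriction to the left factor. -/
noncomputable abbrev toL (f g : B) : Localization.Away f →ₐ[B] Localization.Away (f * g) :=
  awayTo f _ (isUnit_fst f g)

/-- Restriction to the right factor. -/
noncomputable abbrev toR (f g : B) : Localization.Away g →ₐ[B] Localization.Away (f * g) :=
  awayTo g _ (isUnit_snd f g)

theorem toL_eq_zero {f g : B} {z : Localization.Away f} (h : toL f g z = 0) :
    ∃ N : ℕ, algebraMap B (Localization.Away f) (g ^ N) * z = 0 := by
  obtain ⟨n, b, hb⟩ := IsLocalization.Away.surj f z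
  have h1 : algebraMap B (Localization.Away (f * g)) b = 0 := by
    rw [← AlgHom.commutes (toL f g) b, ← hb, map_mul, h, zero_mul]
  obtain ⟨⟨_, N, rfl⟩, hN⟩ := (IsLocalization.map_eq_zero_iff (Submonoid.powers (f * g)) _ b).1 h1
  refine ⟨N, ((isUnit_algebraMap_away f).pow (n + N)).mul_left_eq_zero.1 ?_⟩
  rw [pow_add, mul_assoc, ← mul_assoc z, hb, ← map_pow, ← map_mul, ← map_mul]
  rw [show g ^ N * (b * f ^ N) = (f * g) ^ N * b by ring]
  exact (congrArg _ hN).trans (map_zero _)

theorem exists_toL_eq (f g : B) (x : Localization.Away (f * g)) :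
    ∃ (m : ℕ) (v : Localization.Away f), toL f g v = algebraMap B _ (g ^ m) * x := by
  obtain ⟨m, b, hb⟩ := IsLocalization.Away.surj (f * g) x
  obtain ⟨q, hq⟩ := ((isUnit_algebraMap_away f).pow m).exists_right_inv
  refine ⟨m, algebraMap B _ b * q, ?_⟩
  have h1 := congrArg (toL f g) hq
  rw [map_mul, map_pow, AlgHom.commutes, map_one] at h1
  rw [map_mul, AlgHom.commutes, ← hb, map_pow, map_mul, mul_pow]
  linear_combination (algebraMap B (Localization.Away (f * g)) g ^ m * x) * h1

theorem isNilpotent_of_toL {f g : B} {z : Localization.Away f} (h : IsNilpotent (toL f g z)) :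
    ∃ N : ℕ, IsNilpotent (algebraMap B (Localization.Away f) (g ^ N) * z) := by
  obtain ⟨e, he⟩ := h
  rw [← map_pow] at he
  obtain ⟨N, hN⟩ := toL_eq_zero he
  refine ⟨N, e + 1, ?_⟩
  rw [mul_pow, pow_succ _ e, pow_succ z e]
  linear_combination (algebraMap B (Localization.Away f) (g ^ N)) ^ e * z * hN

variable {ι : Type} [Fintype ι] (f : ι → B)

/-- The cocycle condition. -/
def IsCoc (a : ∀ k i, (Localization.Away (f k * f i))ˣ) : Prop :=
  ∀ (k l i : ι) (C : Type u) (_ : CommRing C) (_ : Algebra B C) (h₁ : IsUnit (algebraMap B C (f k * f l)))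
    (h₂ : IsUnit (algebraMap B C (f l * f i))) (h₃ : IsUnit (algebraMap B C (f k * f i))),
    awayTo _ C h₁ (a k l : Localization.Away (f k * f l)) * awayTo _ C h₂ (a l i : Localization.Away (f l * f i)) =
      awayTo _ C h₃ (a k i : Localization.Away (f k * f i))

/-- A cocycle which is a coboundary modulo nilpotents is a coboundary. -/
theorem exists_coboundary (hf : Ideal.span (Set.range f) = ⊤) (a : ∀ k i, (Localization.Away (f k * f i))ˣ)
    (hc : IsCoc f a) (w : ∀ i, (Localization.Away (f i))ˣ)
    (hw : ∀ k i, IsNilpotent ((a k i : Localization.Away (f k * f i)) * toR (f k) (f i) (w i : Localization.Away (f i)) -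
      toL (f k) (f i) (w k : Localization.Away (f k)))) :
    ∃ t : ∀ i, (Localization.Away (f i))ˣ, ∀ k i,
      (a k i : Localization.Away (f k * f i)) * toR (f k) (f i) (t i : Localization.Away (f i)) =
        toL (f k) (f i) (t k : Localization.Away (f k)) := by
  classical
  choose m₀ v₀ hv₀ using fun k i => exists_toL_eq (f k) (f i)
    ((a k i : Localization.Away (f k * f i)) * toR (f k) (f i) (w i : Localization.Away (f i)))
  let M₁ := Finset.univ.sup fun z : ι × ι => m₀ z.1 z.2
  have hM₁ : ∀ k i, m₀ k i ≤ M₁ := fun k i => Finset.le_sup (f := fun z : ι × ι => m₀ z.1 z.2) (Finset.mem_univ (k, i))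
  have hv₁' : ∀ k i, ∃ v : Localization.Away (f k), toL (f k) (f i) v = algebraMap B _ (f i ^ M₁) *
      ((a k i : Localization.Away (f k * f i)) * toR (f k) (f i) (w i : Localization.Away (f i))) := fun k i =>
    ⟨algebraMap B _ (f i ^ (M₁ - m₀ k i)) * v₀ k i, by
      rw [map_mul, AlgHom.commutes, hv₀, ← mul_assoc, ← map_mul, ← pow_add, Nat.sub_add_cancel (hM₁ k i)]⟩
  choose v₁ hv₁ using hv₁'
  -- nilpotency
  choose N₂ hN₂ using fun k i => isNilpotent_of_toL (f := f k) (g := f i)
    (z := v₁ k i - algebraMap B _ (f i ^ M₁) * (w k : Localization.Away (f k))) (by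
      rw [map_sub, hv₁, map_mul, AlgHom.commutes, ← mul_sub]
      exact Commute.isNilpotent_mul_left (mul_comm _ _) (hw k i))
  -- compatibility
  have hrel : ∀ k l i, ∃ N : ℕ, algebraMap B (Localization.Away (f k * f l)) (f i ^ N) *
      (toL (f k) (f l) (v₁ k i) - (a k l : Localization.Away (f k * f l)) * toR (f k) (f l) (v₁ l i)) = 0 := by
    intro k l i
    refine toL_eq_zero (f := f k * f l) (g := f i) ?_
    let C := Localization.Away (f k * f l * f i)
    have hkl : IsUnit (algebraMap B C (f k * f l)) := isUnit_fst _ _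
    have hi : IsUnit (algebraMap B C (f i)) := isUnit_snd _ _
    rw [map_mul] at hkl
    have hk := isUnit_of_mul_isUnit_left hkl
    have hl := isUnit_of_mul_isUnit_right hkl
    have hki : IsUnit (algebraMap B C (f k * f i)) := by rw [map_mul]; exact hk.mul hi
    have hli : IsUnit (algebraMap B C (f l * f i)) := by rw [map_mul]; exact hl.mul hi
    have e₁ : toL (f k * f l) (f i) (toL (f k) (f l) (v₁ k i)) = awayTo _ C hki (toL (f k) (f i) (v₁ k i)) := by
      rw [← AlgHom.comp_apply, ← AlgHom.comp_apply]
      exact AlgHom.congr_fun (away_hom_ext _ _) (v₁ k i)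
    have e₂ : toL (f k * f l) (f i) (toR (f k) (f l) (v₁ l i)) = awayTo _ C hli (toL (f l) (f i) (v₁ l i)) := by
      rw [← AlgHom.comp_apply, ← AlgHom.comp_apply]
      exact AlgHom.congr_fun (away_hom_ext _ _) (v₁ l i)
    have e₃ : awayTo _ C hki (toR (f k) (f i) (w i : Localization.Away (f i))) =
        awayTo _ C hli (toR (f l) (f i) (w i : Localization.Away (f i))) := by
      rw [← AlgHom.comp_apply, ← AlgHom.comp_apply]
      exact AlgHom.congr_fun (away_hom_ext _ _) (w i : Localization.Away (f i))
    rw [map_sub, map_mul, e₁, e₂, hv₁, hv₁, map_mul, map_mul, map_mul, map_mul, AlgHom.commutes, AlgHom.commutes, e₃,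
      ← hc k l i C inferInstance inferInstance (isUnit_fst _ _) hli hki]
    rw [sub_eq_zero]
    ring
  choose N₃ hN₃ using hrel
  let N := (Finset.univ.sup fun z : ι × ι => N₂ z.1 z.2) + Finset.univ.sup fun z : ι × ι × ι => N₃ z.1 z.2.1 z.2.2
  have hN₂' : ∀ k i, N₂ k i ≤ N := fun k i =>
    (Finset.le_sup (f := fun z : ι × ι => N₂ z.1 z.2) (Finset.mem_univ (k, i))).trans (Nat.le_add_right _ _)
  have hN₃' : ∀ k l i, N₃ k l i ≤ N := fun k l i =>
    (Finset.le_sup (f := fun z : ι × ι × ι => N₃ z.1 z.2.1 z.2.2) (Finset.mem_univ (k, l, i))).trans (Nat.le_add_left _ _)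
  obtain ⟨c, hc'⟩ : ∃ c : ι → B, ∑ i, c i * f i ^ (N + M₁) = 1 := by
    have h1 := Ideal.span_pow_eq_top _ hf (N + M₁)
    rw [← Set.range_comp, Ideal.eq_top_iff_one, Ideal.mem_span_range_iff_exists_fun] at h1
    exact h1
  let t₀ : ∀ k, Localization.Away (f k) := fun k => ∑ i, algebraMap B _ (c i * f i ^ N) * v₁ k i
  have ht₀ : ∀ k, IsUnit (t₀ k) := fun k => by
    have h1 : IsNilpotent (t₀ k - (w k : Localization.Away (f k))) := by
      have e : t₀ k - (w k : Localization.Away (f k)) =
          ∑ i, algebraMap B _ (c i * f i ^ N) * (v₁ k i - algebraMap B _ (f i ^ M₁) * (w k : Localization.Away (f k))) := by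
        simp only [mul_sub, Finset.sum_sub_distrib, ← mul_assoc, ← map_mul]
        rw [← Finset.sum_mul, ← map_sum]
        simp only [mul_assoc, ← pow_add, hc', map_one, one_mul]
        rfl
      rw [e]
      refine isNilpotent_sum fun i _ => ?_
      rw [show c i * f i ^ N = c i * f i ^ (N - N₂ k i) * f i ^ N₂ k i by rw [mul_assoc, ← pow_add, Nat.sub_add_cancel (hN₂' k i)],
        map_mul, mul_assoc]
      exact Commute.isNilpotent_mul_left (mul_comm _ _) (hN₂ k i)
    have h2 := h1.isUnit_add_left_of_commute (w k).isUnit (mul_comm _ _)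
    rwa [add_sub_cancel] at h2
  refine ⟨fun k => (ht₀ k).unit, fun k l => ?_⟩
  show (a k l : Localization.Away (f k * f l)) * toR (f k) (f l) (t₀ l) = toL (f k) (f l) (t₀ k)
  simp only [t₀, map_sum, map_mul, AlgHom.commutes, Finset.mul_sum]
  refine Finset.sum_congr rfl fun i _ => (sub_eq_zero.1 ?_).symm
  have h1 := hN₃ k l i
  have h2 : algebraMap B (Localization.Away (f k * f l)) (f i ^ N) =
      algebraMap B _ (f i ^ (N - N₃ k l i)) * algebraMap B _ (f i ^ N₃ k l i) := by
    rw [← map_mul, ← pow_add, Nat.sub_add_cancel (hN₃' k l i)]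
  linear_combination algebraMap B (Localization.Away (f k * f l)) (c i) *
    algebraMap B (Localization.Away (f k * f l)) (f i ^ (N - N₃ k l i)) * h1 +
    algebraMap B (Localization.Away (f k * f l)) (c i) *
    (toL (f k) (f l) (v₁ k i) - (a k l : Localization.Away (f k * f l)) * toR (f k) (f l) (v₁ l i)) * h2

end Groth.Agent.GaFrob87
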